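import Cfsg.Agent.Lib.Helper12.TCG.U33x28.TabT
import Cfsg.Agent.Lib.Helper12.TC.Fn.LowerParts

/-! checks for the lower bound of the order, part 0 (generated, helper12) -/

set_option autoImplicit false
set_option maxRecDepth 100000

namespace Cfsg.Agent.Lib.Helper12.TCG.U33x28

open Cfsg.Agent.Lib.Helper12.TC Cfsg.Agent.Lib.Helper12.TCG

theorem hs7_0 : Fn.slpColK TT 7 [5, 5, 6, 4, 4, 5, 4, 1, 1, 0, 1, 2, 2, 0, 0, 2, 2, 1, 0] 0 28 = true := by decide +kernel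

theorem hs6_0 : Fn.slpColK TT 6 [3, 4, 4, 2, 0, 2, 0, 1, 1, 2, 0, 1, 0, 2, 0] 0 28 = true := by decide +kernel

theorem hs8_0 : Fn.slpColK TT 8 [5, 2, 1, 2, 2, 2, 1, 2, 2, 0, 1, 1, 2] 0 28 = true := by decide +kernel

theorem hs3_0 : Fn.slpColK TT 3 [0, 2, 0, 1, 0, 1, 1, 1, 2, 1, 0, 0] 0 28 = true := by decide +kernel

theorem hs4_0 : Fn.slpColK TT 4 [1, 0, 1, 1, 2, 0, 2, 1, 1, 2, 0, 2] 0 28 = true := by decide +kernel

theorem hs5_0 : Fn.slpColK TT 5 [0, 1, 0, 0, 0, 2, 2, 0, 1, 2, 0, 1] 0 28 = true := by decide +kernel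

/-- a part of a tree -/
def tree0_0 : List (ℕ × ℕ × ℕ) :=
  [(17, 0, 3), (16, 0, 4), (2, 17, 3), (10, 17, 4), (18, 17, 5), (21, 17, 6), (3, 17, 7), (9, 17, 8), (22, 16, 3), (11, 16, 4), (19, 16, 5), (6, 16, 6), (23, 16, 8), (15, 2, 4), (8, 2, 5), (4, 10, 4), (12, 10, 6), (25, 10, 8), (1, 18, 4), (24, 21, 5), (26, 21, 7), (14, 3, 5), (27, 3, 8), (20, 9, 4), (5, 6, 8), (7, 15, 4), (13, 12, 6)]

theorem ht0_0 : Fn.treePartK TT [3, 4, 5, 6, 7, 8] tree0_0 1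
    (fun s => Nat.beq s 268435455) = true := by decide +kernel

/-- a part of a tree -/
def tree1_0 : List (ℕ × ℕ × ℕ) :=
  [(22, 1, 5), (5, 1, 6), (27, 22, 5), (9, 22, 7), (17, 22, 8), (3, 5, 5), (14, 5, 6), (11, 5, 7), (20, 27, 6), (13, 27, 7), (12, 27, 8), (10, 9, 6), (18, 17, 5), (21, 17, 6), (4, 3, 6), (23, 14, 6), (15, 11, 6), (8, 11, 7), (2, 20, 5), (25, 20, 6), (6, 20, 7), (7, 20, 8), (26, 13, 5), (16, 10, 5), (19, 18, 7), (24, 21, 5)]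

theorem ht1_0 : Fn.treePartK TT [5, 6, 7, 8] tree1_0 2
    (fun s => Nat.beq s 268435454) = true := by decide +kernel

theorem hgens1 : Fn.gensK TT 9 [0] [5, 6, 7, 8] = true := by decide +kernel

theorem hgens0 : Fn.gensK TT 9 [] [3, 4, 5, 6, 7, 8] = true := by decide +kernel

theorem hgens2 : Fn.gensK TT 9 [1, 0] [7, 8] = true := by decide +kernel

/-- a part of a tree -/
def tree2_0 : List (ℕ × ℕ × ℕ) :=
  [(17, 2, 7), (22, 2, 8), (3, 17, 7), (9, 17, 8), (12, 3, 7), (27, 3, 8), (13, 12, 8)]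

theorem ht2_0 : Fn.treePartK TT [7, 8] tree2_0 4
    (fun s => Nat.beq s 138555916) = true := by decide +kernel

end Cfsg.Agent.Lib.Helper12.TCG.U33x28
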