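import Cfsg.Agent.Lib.Helper12.TCG.U33x28.Tab

/-! certificate check for U33x28, part 0 (generated, helper12) -/

set_option autoImplicit false
set_option maxRecDepth 100000

namespace Cfsg.Agent.Lib.Helper12.TCG.U33x28

open Cfsg.Agent.Lib.Helper12.TC Cfsg.Agent.Lib.Helper12.TCG

/-- records -/
def c0 : List ℕ := [14, 79753684342328642654098244392116552975, 17732923549549056, 281475933012481, 7699123093576660810409828066728490745172317803906878112771897301542700809277880069284089019350856502786, 1274639415500971771395903534831861039888777541979534669010589398999138098797873923, 5739346360734090027481521634690297705214961779109819165987787934610285648074197080839968604550833638916, 75974429788271571845683521187389417222964277392701248478385504623471364869, 93941703590921797354305250234914506909150852057355093266044087948491051208411419526593905035220589953622740742, 264452523322175863653120, 281476000121345, 7419155000804472086010116390294740303600769958600317770376549816663711380345444755253671903581125479943, 1037497202608165998077900442558924818435593104615068150644530159357905381368007432, 6019314486881146310722557840766019177311958934073270273850665788995048283465272791617169441877804453385, 308716901648929447958666010825993951851885535893755639670068307589511184572153821365910428978442, 275342081833121041976847629510965743669861720232656125218994803235245653791408446101923792162059, 1037497133701136263897022407567571184433116744820269378238773547720102190994426636,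 279968401489106784998006509593914233047719967429888291316410384713732625957680921693436548846599540237, 86575508596323923429612457932793274444053601355033689868838225293877447427, 16687424081619152983887570073158654659988663546348507395204920572698958777164135381149518138882, 342091702069133560739240930912674638824159462784640438177944395836477515294044599534500083404043]
theorem chunk0 : chunkG cIV F RW cR0 c0 30 = true := by decide +kernel

end Cfsg.Agent.Lib.Helper12.TCG.U33x28
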