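import Cfsg.Agent.Lib.Helper12.TCG.Parts

/-! certificate data for U33x28: the final table (generated, helper12) -/

set_option autoImplicit false
set_option maxRecDepth 100000

namespace Cfsg.Agent.Lib.Helper12.TCG.U33x28

open Cfsg.Agent.Lib.Helper12.TC Cfsg.Agent.Lib.Helper12.TCG

/-- a part of the final table -/
def fr0 : List ℕ := [175921924407296, 3246627308816686907398, 7378698333171302268941, 15937987794478767800340, 25677868507067756576790, 28039052575335311736856, 29809940182333301719070, 24497276903942500909071, 21545797623450571898896, 15642840698540024397851, 12396212492521916334094, 8854437454447776890889, 7673845956875654266888, 27153608173702041567258, 12101065554912780222485, 29219643580326262865948, 590295827950961950721, 1770887519037061857283, 22136094155088893837330, 4722366606015016730628, 26858461007394469052445, 13281657386736467050519, 14757396103392610222099, 20365205844403451592711, 6198107205035096014859, 14462248866716377415705, 1180591673493982019586, 6788403120946920030220]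

/-- the final table -/
def finrecs : List ℕ := fr0

/-- the bitmap of the live labels -/
def LIVE : ℕ := 2147351519

/-- the bitmap of the labels of a part -/
def LIVE0 : ℕ := 2147351519

end Cfsg.Agent.Lib.Helper12.TCG.U33x28
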