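import Cfsg.Agent.Lib.Helper12.TCG.Parts

/-! certificate data for U33x28: the facts (generated, helper12) -/

set_option autoImplicit false
set_option maxRecDepth 100000

namespace Cfsg.Agent.Lib.Helper12.TCG.U33x28

open Cfsg.Agent.Lib.Helper12.TC Cfsg.Agent.Lib.Helper12.TCG

/-- the tree of facts -/
noncomputable def AT : Tr := .leaf 202862938687458086918463069938348828828171997965538753385300391254839852093649740949998711885711558547249754750161917307487014208660368568339224168460452379571714210988824915479257793717604207231617420867708395360208089632930818975583905307820884881810759447048847662232896471807621076165623819959383405759688567938929153692849965073736741116351422207155063951183867685433929570116124730542774223293519156559691558305888896093140789099153312115496661751949428077005302701443885684959819211170534523830570328540461690374409052862277503678602302202950500630336318376037628117707121332525397088252103132282532186391412388130518469562501178427147623981654936538679942415119286272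

/-- the facts -/
noncomputable def F : ℕ → ℕ := getT9 AT

/-- pieces of `RW` -/
def RWP : List ℕ := [17700464924173534625665477969421501124284262496849834586306161803940407082289724377263563072660642382446662368447681806604083871500986954021362827972264325171527422350845522301882103941808081358687360347086577509076528040583555021965775618463665346385929779956402815600327518276922987637908615859149761667144835537982970074553872487775733080291057010687426980988338570250019693083125955057212649965351820028826279103138498403512719363104216674063140715581281458532589218671719049601850166549358420368368329738682124480127336142506253694070030873397911553740906210352784972778551560022442379175655130346815299985642928566528433770627025433295807942133828512339037450394674398565541372053505775337422825270586714094694669546846196652808207736894636482106151220570766687290291009900774139099676485703519186466648830520025952571920251907041093222935134801174548874354134304538005462746648800646513549312778417529262205073019160599895591923761565937433950612350327314205272769361497350721172500837720250569399533077167154294346882463177566625651130054938757541692694332862701641214259126339158126332854388357323576248516540808392653597203071145987446255295595651530820185467108999445736188212829915420523588005411042716321097338938797219862568921287681743017392529814319405716130991332165454322827051681957817410249629124983886781633367571711215717242558474794245187208592831870897669628975001660462185844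9693359377967495009271802622901239290459885364881872420830481231405547701438023302710436858204772003363847928427417684881116172746774245191987333958520676793597545616662442609180622272745798339830147231764628483295308147977371446250469116112534910081657644284659168762421022470749030213252298984499125868313550295704900794694615577251030996475568867449280738011602989980306247033100382438928183894189422819756101846499445183404680305405073904994589189762944865848527129562177784202883966083044532215006703128981353610196589372557555228588426226634892046924028384888311535173638577323354897884551304194390714126125265500020359740717600246958690620767679524445055931501403319930648296746296504776902419496823331693719069139313115554421558100899508231141657491248865288005606453208701926733323012055916589689575357485680740294583685719937041393769574392533494536591807248452997565070862568866687340206287266175088903323698]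
/-- certificate data -/
noncomputable def RW : ℕ := joinK RWP

/-- the inverse letters -/
def cIV : ℕ := 18364758544493064480

/-- rotations -/
def rotW : List (ℕ × ℕ) := [(5, 0), (4, 0), (3, 0), (2, 5), (3, 13), (0, 0), (3, 2), (3, 6), (2, 3), (3, 4), (1, 3), (1, 0), (2, 0), (3, 14)]

/-- subgroup words -/
def sw : List (List ℕ) := [[0], [2, 2, 2, 2, 0, 1]]

/-- constants -/
def cD : ℕ := 30
/-- constants -/
def cK : ℕ := 51
/-- constants -/
def cR0 : ℕ := 14
/-- constants -/
def cR : ℕ := 16
/-- constants -/
def cN : ℕ := 28

end Cfsg.Agent.Lib.Helper12.TCG.U33x28
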