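import Cfsg.Agent.Lib.Helper12.TCG.Parts

/-! certificate data for U33x28: the table of the permutation representation (generated, helper12) -/

set_option autoImplicit false
set_option maxRecDepth 100000

namespace Cfsg.Agent.Lib.Helper12.TCG.U33x28

open Cfsg.Agent.Lib.Helper12.TC Cfsg.Agent.Lib.Helper12.TCG

/-- the tree of the table -/
noncomputable def TR : Tr := .node 320 (.node 192 (.node 128 (.node 64 (.leaf 79180961729215182660866154885064101456687891099738531980392802856791270590898083134324393777417440036865968939107451088678642681159293839206713085974026063187017728) (.leaf 82780072170446939150392021010226003753018292674666055376291463273720332300543195871169017327076614732057579929306770699783152412005677038411468617131575590426509328)) (.leaf 64784413559816402591581355973251583156898615642220032703526570187661134069339368253792380644212111483803551600459321681980422529692234066103645454564760115270909953)) (.node 256 (.leaf 3599161927266581818721062049403232447415627635023402517481105560595708849510570697038340043358510823970836756052146047567384445463899689067920004684030884143169553) (.leaf 46788785840893178626207156853715232822300898209463481540532833222309156830134222223750565715329939464337229583440804754360279385184865341596000697700878460766912528))) (.node 448 (.node 384 (.leaf 3599155062439461163275027208332933077278411911783404758266417059969879291781514992872477228964255187265963134052820284142836014438450219497880197535203100540796928)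 (.leaf 71982703090348171901160229881248412559928094985742464244152463162928050238290080589040131813382181963784465167703142297669480206651527447733982600775637991794147328)) (.node 512 (.leaf 46788754949313528175947905715781671892443372072827981331237783028808767425541621865995555236752417670867086922219747567058287699946606054113150951915385521756438528) (.leaf 43189654805219340795202992718448761741546053363908393287619980593383049413914275907481023197627994679586861475622719897187600254762239078348046933966733253440176128)))

/-- the table -/
noncomputable def TT : ℕ → ℕ → ℕ := tabT20 TR

/-- the number of points -/
def tN : ℕ := 28

end Cfsg.Agent.Lib.Helper12.TCG.U33x28
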